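import Mathlib

set_option linter.unusedSectionVars false
set_option linter.unusedVariables false
set_option linter.unusedSimpArgs false
set_option autoImplicit false
set_option linter.style.haveILetI false
set_option maxHeartbeats 400000

namespace Groth.Agent.Helper6.ConnPBLib

open AlgebraicGeometry CategoryTheory TopologicalSpace Opposite

universe u

variable {Z T : Scheme.{u}} (φ : Z ⟶ T)

/-- naturality of `app` with respect to restriction, applied to an element -/
lemma app_res {O W : T.Opens} (i : W ⟶ O) (s : Γ(T, O)) :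
    φ.app W (T.presheaf.map i.op s) =
      Z.presheaf.map ((Opens.map φ.base).map i).op (φ.app O s) := by
  have h := φ.naturality i.op
  exact ConcreteCategory.congr_hom h s

variable (ℬ : Set T.Opens)
  (hℬ : ∀ (O : T.Opens) (x : T), x ∈ O → ∃ W ∈ ℬ, x ∈ W ∧ W ≤ O)
  (hiso : ∀ W ∈ ℬ, Function.Bijective (φ.app W))

include hℬ hiso in
lemma app_injective (O : T.Opens) : Function.Injective (φ.app O) := by
  rw [injective_iff_map_eq_zero]
  intro s hs
  have hex : ∀ x : ↥O, ∃ W ∈ ℬ, x.1 ∈ W ∧ W ≤ O := fun x => hℬ O x.1 x.2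
  choose W hWℬ hxW hWO using hex
  apply TopCat.Sheaf.eq_of_locally_eq' T.sheaf (fun x : ↥O => W x) O (fun x => homOfLE (hWO x))
  · intro x hx
    exact Opens.mem_iSup.mpr ⟨⟨x, hx⟩, hxW ⟨x, hx⟩⟩
  · intro x
    apply (hiso (W x) (hWℬ x)).1
    show φ.app (W x) (T.presheaf.map (homOfLE (hWO x)).op s) =
      φ.app (W x) (T.presheaf.map (homOfLE (hWO x)).op 0)
    rw [app_res, app_res, hs, map_zero, map_zero, map_zero]

include hℬ hiso in
lemma app_surjective (O : T.Opens) : Function.Surjective (φ.app O) := by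
  intro t
  have hex : ∀ x : ↥O, ∃ W ∈ ℬ, x.1 ∈ W ∧ W ≤ O := fun x => hℬ O x.1 x.2
  choose W hWℬ hxW hWO using hex
  -- local preimages
  have hloc : ∀ x : ↥O, ∃ s : Γ(T, W x), φ.app (W x) s =
      Z.presheaf.map ((Opens.map φ.base).map (homOfLE (hWO x))).op t :=
    fun x => (hiso (W x) (hWℬ x)).2 _
  choose sf hsf using hloc
  have hcompat : TopCat.Presheaf.IsCompatible T.presheaf W sf := by
    intro x y
    apply app_injective φ ℬ hℬ hiso (W x ⊓ W y)
    rw [app_res, app_res, hsf x, hsf y, ← CommRingCat.comp_apply, ← CommRingCat.comp_apply,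
      ← Functor.map_comp, ← Functor.map_comp]
    rfl
  have hcover : O ≤ iSup W := by
    intro x hx
    exact Opens.mem_iSup.mpr ⟨⟨x, hx⟩, hxW ⟨x, hx⟩⟩
  obtain ⟨s, hs, -⟩ := T.sheaf.existsUnique_gluing' W O (fun x => homOfLE (hWO x)) hcover sf hcompat
  refine ⟨s, ?_⟩
  apply TopCat.Sheaf.eq_of_locally_eq' Z.sheaf (fun x : ↥O => φ ⁻¹ᵁ (W x)) (φ ⁻¹ᵁ O)
    (fun x => (Opens.map φ.base).map (homOfLE (hWO x)))
  · intro z hz
    exact Opens.mem_iSup.mpr ⟨⟨φ z, hz⟩, hxW ⟨φ z, hz⟩⟩
  · intro x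
    have h1 := app_res φ (homOfLE (hWO x)) s
    have h2 : T.presheaf.map (homOfLE (hWO x)).op s = sf x := hs x
    rw [h2, hsf x] at h1
    exact h1.symm

include hℬ hiso in
lemma app_bijective (O : T.Opens) : Function.Bijective (φ.app O) :=
  ⟨app_injective φ ℬ hℬ hiso O, app_surjective φ ℬ hℬ hiso O⟩

end Groth.Agent.Helper6.ConnPBLib
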