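import Mathlib
import Groth.Agent.Lib.Helper6.ConnPB.Glue
import Groth.Agent.Lib.Helper7.GeomConn.SchemeGlue

set_option linter.unusedSectionVars false
set_option linter.unusedVariables false
set_option linter.unusedSimpArgs false
set_option autoImplicit false
set_option linter.style.haveILetI false
set_option maxHeartbeats 400000

namespace Groth.Agent.Helper6.ConnPBLib

open AlgebraicGeometry CategoryTheory TopologicalSpace Opposite Limits

universe u

variable {X Y Y' : Scheme.{u}} (f : X ⟶ Y) (g : Y' ⟶ Y)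

/-- flat base change for sections over a small affine open -/
lemma bijective_app_snd [QuasiCompact f] [QuasiSeparated f] [Flat g]
    (hf : ∀ U : Y.Opens, Function.Bijective (f.app U))
    (V : Y.Opens) (hV : IsAffineOpen V) (W : Y'.Opens) (hW : IsAffineOpen W)
    (hWV : W ≤ g ⁻¹ᵁ V) : Function.Bijective ((pullback.snd f g).app W) := by
  have H : IsPullback (pullback.fst f g) (pullback.snd f g) f g := IsPullback.of_hasPullback f g
  have hUY : (pullback.snd f g) ⁻¹ᵁ W =
      (pullback.fst f g) ⁻¹ᵁ (f ⁻¹ᵁ V) ⊓ (pullback.snd f g) ⁻¹ᵁ W := by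
    apply le_antisymm
    · refine le_inf ?_ le_rfl
      intro z hz
      show f ((pullback.fst f g) z) ∈ V
      have h1 : f ((pullback.fst f g) z) = g ((pullback.snd f g) z) := by
        rw [← Scheme.Hom.comp_apply, ← Scheme.Hom.comp_apply, pullback.condition]
      rw [h1]
      exact hWV hz
    · exact inf_le_right
  have hcomp : IsCompact (X := X) (f ⁻¹ᵁ V) := f.isCompact_preimage hV.isCompact
  have hqs : IsQuasiSeparated (α := X) (f ⁻¹ᵁ V) := f.isQuasiSeparated_preimage hV.isQuasiSeparated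
  have hiso := isIso_pushoutSection_of_isQuasiSeparated_of_flat_right H hWV
    (le_refl (f ⁻¹ᵁ V)) hUY hV hW hcomp hqs
  have hpo := (isIso_pushoutSection_iff H hWV (le_refl (f ⁻¹ᵁ V)) hUY).mp hiso
  haveI : IsIso (f.appLE V (f ⁻¹ᵁ V) le_rfl) := by
    rw [Scheme.Hom.appLE_eq_app]
    exact (ConcreteCategory.isIso_iff_bijective _).mpr (hf V)
  have h2 := hpo.isIso_inr_of_isIso
  rw [Scheme.Hom.appLE_eq_app] at h2
  exact (ConcreteCategory.isIso_iff_bijective _).mp h2

theorem connectedSpace_pullback [QuasiCompact f] [QuasiSeparated f] [Flat g]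
    (hf : ∀ U : Y.Opens, Function.Bijective (f.app U)) [ConnectedSpace Y'] :
    ConnectedSpace ↥(pullback f g) := by
  let ℬ : Set Y'.Opens := {W | IsAffineOpen W ∧ ∃ V : Y.Opens, IsAffineOpen V ∧ W ≤ g ⁻¹ᵁ V}
  have hℬ : ∀ (O : Y'.Opens) (x : Y'), x ∈ O → ∃ W ∈ ℬ, x ∈ W ∧ W ≤ O := by
    intro O x hx
    obtain ⟨_, ⟨V, hV, rfl⟩, hgxV, -⟩ :=
      Y.isBasis_affineOpens.exists_subset_of_mem_open (Set.mem_univ (g x)) isOpen_univ
    have hx' : x ∈ O ⊓ g ⁻¹ᵁ V := ⟨hx, hgxV⟩
    obtain ⟨_, ⟨W, hW, rfl⟩, hxW, hWO⟩ :=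
      Y'.isBasis_affineOpens.exists_subset_of_mem_open hx' (O ⊓ g ⁻¹ᵁ V).isOpen
    exact ⟨W, ⟨hW, V, hV, fun z hz => (hWO hz).2⟩, hxW, fun z hz => (hWO hz).1⟩
  have hiso : ∀ W ∈ ℬ, Function.Bijective ((pullback.snd f g).app W) := by
    rintro W ⟨hW, V, hV, hWV⟩
    exact bijective_app_snd f g hf V hV W hW hWV
  have hbij := app_bijective (pullback.snd f g) ℬ hℬ hiso ⊤
  -- nonempty
  haveI hne : Nonempty ↥(pullback f g) := by
    by_contra hemp
    rw [not_nonempty_iff] at hemp
    have htop : (⊤ : (pullback f g).Opens) = ⊥ := by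
      ext z; exact hemp.elim z
    have hsub : Subsingleton Γ(pullback f g, (pullback.snd f g) ⁻¹ᵁ ⊤) := by
      have : (pullback.snd f g) ⁻¹ᵁ (⊤ : Y'.Opens) = ⊥ := by
        ext z; exact hemp.elim z
      rw [this]; infer_instance
    have h01 : (0 : Γ(Y', ⊤)) = 1 := by
      apply hbij.1
      exact Subsingleton.elim _ _
    have hu : IsUnit (0 : Γ(Y', ⊤)) := by rw [h01]; exact isUnit_one
    obtain ⟨y⟩ : Nonempty Y' := inferInstance
    have hgerm : IsUnit (Y'.presheaf.germ ⊤ y trivial (0 : Γ(Y', ⊤))) := hu.map _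
    rw [map_zero] at hgerm
    exact not_isUnit_zero hgerm
  apply Groth.Agent.Helper7.GeomConn.connectedSpace_of_idempotent_trivial
  intro e he
  obtain ⟨e', rfl⟩ := hbij.2 e
  have he' : IsIdempotentElem e' := by
    apply hbij.1
    rw [map_mul]
    exact he
  rcases Groth.Agent.Helper7.GeomConn.idempotent_trivial_of_connected Y' e' he' with h | h
  · left; rw [h, map_zero]; rfl
  · right; rw [h, map_one]; rfl

end Groth.Agent.Helper6.ConnPBLib
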